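import Cfsg.Agent.Lib.PGroups.Omega

/-!
Alperin's lemma relative to a normal subgroup `N`.
-/

set_option autoImplicit false
set_option linter.unusedSectionVars false
set_option linter.style.haveILetI false

namespace CfsgLib.PLocal.ExpPLength

open Subgroup CfsgLib.PGroups
open scoped commutatorElement

variable {G : Type*} [Group G] {p : ℕ} [Fact p.Prime]

theorem mem_of_maximal_in [Finite G] (hG : IsPGroup p G) {n : ℕ} (hn : p ^ n ≠ 2)
    {N : Subgroup G} [N.Normal] {A : Subgroup G} [A.Normal] (hAN : A ≤ N) (hA : IsMulCommutative A) (hAe : ∀ a ∈ A, a ^ p ^ n = 1)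
    (hmax : ∀ B : Subgroup G, B ≤ N → B.Normal → IsMulCommutative B → (∀ b ∈ B, b ^ p ^ n = 1) → A ≤ B →
      B = A) {x : G} (hx : x ∈ centralizer (A : Set G)) (hxn : x ^ p ^ n = 1) (hxN : x ∈ N) : x ∈ A := by
  have hp : p.Prime := Fact.out
  by_cases hn0 : n = 0
  · subst hn0
    simp only [pow_zero, pow_one] at hxn
    exact hxn ▸ one_mem A
  have hch : p ∣ (p ^ n).choose 2 := by
    refine hp.dvd_choose_pow two_ne_zero fun h => hn h.symm
  haveI := hG.isNilpotent
  obtain ⟨c, hc⟩ := Subgroup.nilpotent_iff_lowerCentralSeries.mp ‹Group.IsNilpotent G›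
  set γ := (⊤ : Subgroup G).lowerCentralSeries with hγ
  have hγm : ∀ {i : ℕ} {a : G} (b : G), a ∈ γ i → ⁅a, b⁆ ∈ γ (i + 1) := fun b ha =>
    commutator_mem_commutator ha (mem_top b)
  have hγ' : ∀ {i : ℕ} {a : G} (b : G), a ∈ γ i → ⁅b, a⁆ ∈ γ (i + 1) := fun {i a} b ha => by
    rw [← commutatorElement_inv a b]; exact inv_mem (hγm b ha)
  have hCA : ∀ {y g : G}, y ∈ centralizer (A : Set G) → g * y * g⁻¹ ∈ centralizer (A : Set G) :=
    fun {y g} hy => (inferInstance : (centralizer (A : Set G)).Normal).conj_mem y hy g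
  suffices main : ∀ d i, i + d = c → ∀ y ∈ γ i, y ∈ N → y ∈ centralizer (A : Set G) → y ^ p ∈ A →
      y ^ p ^ n = 1 → y ∈ A by
    by_contra hxA
    have hex : ∃ k, x ^ p ^ k ∈ A := ⟨n, hxn ▸ one_mem A⟩
    classical
    have hk := Nat.find_spec hex
    obtain ⟨k, hk'⟩ : ∃ k, Nat.find hex = k + 1 := by
      refine ⟨Nat.find hex - 1, ?_⟩
      have : Nat.find hex ≠ 0 := fun h0 => hxA (by simpa [h0] using hk)
      omega
    have hlow : x ^ p ^ k ∉ A := Nat.find_min hex (by omega)
    refine hlow (main c 0 (by omega) _ (by simp [hγ]) (pow_mem hxN _) (pow_mem hx _) ?_ ?_)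
    · rw [← pow_mul, ← pow_succ, ← hk']; exact hk
    · rw [← pow_mul, mul_comm, pow_mul, hxn, one_pow]
  intro d
  induction d with
  | zero =>
    intro i hi y hy _ _ _ _
    rw [Nat.add_zero] at hi
    subst hi
    rw [hc, mem_bot] at hy
    exact hy ▸ one_mem A
  | succ d ih =>
    intro i hi y hy hyN hyC hyp hyn
    have key : ∀ e k, k + e = c → ∀ g ∈ γ k, y⁻¹ * (g * y * g⁻¹) ∈ A := by
      intro e
      induction e with
      | zero =>
        intro k hk g hg
        rw [Nat.add_zero] at hk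
        subst hk
        rw [hc, mem_bot] at hg
        simp [hg]
      | succ e ihe =>
        intro k hk g hg
        set z := g * y * g⁻¹ with hz
        have hzC : z ∈ centralizer (A : Set G) := hCA hyC
        have h1 := ihe (k + 1) (by omega) ⁅g, y⁆ (hγm y hg)
        -- the commutator of the two conjugates lies in A
        have hu : ⁅z, y⁆ ∈ A := by
          have hcm : y * (y⁻¹ * (⁅g, y⁆ * y * ⁅g, y⁆⁻¹)) = y⁻¹ * (⁅g, y⁆ * y * ⁅g, y⁆⁻¹) * y :=
            (hyC _ h1).symm
          have : ⁅z, y⁆ = y⁻¹ * (⁅g, y⁆ * y * ⁅g, y⁆⁻¹) := by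
            rw [show ⁅z, y⁆ = ⁅g, y⁆ * y * ⁅g, y⁆⁻¹ * y⁻¹ by
              simp [hz, commutatorElement_def, mul_assoc]]
            rw [mul_inv_eq_iff_eq_mul, ← hcm, mul_inv_cancel_left]
          rwa [this]
        have hzp : z ^ p ∈ A := by
          rw [hz, conj_pow]; exact (inferInstance : A.Normal).conj_mem _ hyp g
        have hzn : z ^ p ^ n = 1 := by rw [hz, conj_pow, hyn, mul_one, mul_inv_cancel]
        have hu' : ⁅z, y⁻¹⁆ = ⁅z, y⁆⁻¹ := by
          rw [commutatorElement_inv_right, ← commutatorElement_inv z y]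
          have := hyC _ (inv_mem hu)
          rw [mul_assoc, this, inv_mul_cancel_left]
        have cy : Commute ⁅z, y⁻¹⁆ y⁻¹ := by
          rw [hu']; exact (show Commute ⁅z, y⁆ y from hyC _ hu).inv_inv
        have cz : Commute ⁅z, y⁻¹⁆ z := by
          rw [hu']; exact (show Commute ⁅z, y⁆ z from hzC _ hu).inv_left
        have hup : ⁅z, y⁻¹⁆ ^ p = 1 := by
          have h2 := mul_pow_of_commute cy cz
          rw [hu', inv_pow, inv_eq_one]
          have h3 : ∀ m : ℕ, ⁅z, y⁆ ^ m = ⁅z, y ^ m⁆ := by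
            have cc : Commute ⁅z, y⁆ y := hyC _ hu
            intro m
            induction m with
            | zero => simp
            | succ m ihm =>
              rw [pow_succ, pow_succ', commutatorElement_mul_right_eq_mul_conj, ← ihm]
              have : y * ⁅z, y⁆ ^ m * y⁻¹ = ⁅z, y⁆ ^ m := by
                rw [← (cc.pow_left m).eq, mul_inv_cancel_right]
              rw [mul_assoc, mul_assoc, ← mul_assoc y (⁅z, y⁆ ^ m) y⁻¹, this]
              exact ((Commute.refl ⁅z, y⁆).pow_left m).eq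
          rw [h3 p, commutatorElement_eq_one_iff_mul_comm]
          exact (hzC _ hyp).symm
        refine ih (i + 1) (by omega) _ ?_
          (mul_mem (inv_mem hyN) ((inferInstance : N.Normal).conj_mem _ hyN g))
          (mul_mem (inv_mem hyC) hzC) ?_ ?_
        · rw [show y⁻¹ * z = ⁅y⁻¹, g⁆ by simp [hz, commutatorElement_def, mul_assoc]]
          exact hγm g (inv_mem hy)
        · rw [mul_pow_of_commute cy cz, inv_pow]
          exact mul_mem (mul_mem (inv_mem hyp) hzp) (pow_mem (hu' ▸ inv_mem hu) _)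
        · rw [mul_pow_of_commute cy cz, inv_pow, hyn, hzn, inv_one, one_mul, one_mul]
          obtain ⟨m, hm⟩ := hch
          rw [hm, pow_mul, hup, one_pow]
    have hcomm : ∀ g : G, ⁅g, y⁆ ∈ A := by
      intro g
      have h1 := key c 0 (by omega) g (by simp [hγ])
      rw [show ⁅g, y⁆ = y * (y⁻¹ * (g * y * g⁻¹)) * y⁻¹ by simp [commutatorElement_def, mul_assoc]]
      exact (inferInstance : A.Normal).conj_mem _ h1 y
    have hBn : (A ⊔ zpowers y).Normal := by
      rw [← Subgroup.commutator_top_left_le_iff, Subgroup.commutator_le]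
      intro g _ b hb
      obtain ⟨a, ha, t, ht, rfl⟩ := Subgroup.mem_sup_of_normal_left.mp hb
      obtain ⟨j, rfl⟩ := Subgroup.mem_zpowers_iff.mp ht
      refine le_sup_left (b := zpowers y) ?_
      rw [← QuotientGroup.eq_one_iff, ← QuotientGroup.mk'_apply A, map_commutatorElement,
        commutatorElement_eq_one_iff_commute, map_mul, QuotientGroup.mk'_apply A a,
        (QuotientGroup.eq_one_iff a).mpr ha, one_mul, map_zpow]
      refine Commute.zpow_right ?_ j
      rw [← commutatorElement_eq_one_iff_commute, ← map_commutatorElement, QuotientGroup.mk'_apply,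
        QuotientGroup.eq_one_iff]
      exact hcomm g
    have hBab : IsMulCommutative ↥(A ⊔ zpowers y) := isMulCommutative_sup_zpowers hA hyC
    have hBe : ∀ b ∈ A ⊔ zpowers y, b ^ p ^ n = 1 := by
      intro b hb
      obtain ⟨a, ha, t, ht, rfl⟩ := Subgroup.mem_sup_of_normal_left.mp hb
      obtain ⟨j, rfl⟩ := Subgroup.mem_zpowers_iff.mp ht
      have hc12 : Commute a (y ^ j) := (show Commute a y from hyC a ha).zpow_right j
      rw [hc12.mul_pow, hAe a ha, one_mul, ← zpow_natCast, ← zpow_mul, mul_comm, zpow_mul,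
        zpow_natCast, hyn, one_zpow]
    exact hmax _ (sup_le hAN (zpowers_le.mpr hyN)) hBn hBab hBe le_sup_left ▸ le_sup_right (a := A) (mem_zpowers y)

end CfsgLib.PLocal.ExpPLength
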