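import Mathlib
import Cfsg.Agent.Lib.Coprime.Action2

/-!
An automorphism `y` of `p`-power order of a coprime group of class at most two, all of whose
invariant abelian subgroups are fixed by `z = y ^ p ^ (e - 1)`: then `z` commutes with every
elementary abelian group of automorphisms which it normalises and which fixes the commutators.
-/

set_option autoImplicit false
set_option linter.unusedSectionVars false
set_option linter.style.haveILetI false

namespace CfsgLib.PLocal.ExpPLength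

open Subgroup
open scoped commutatorElement

variable {C : Type*} [Group C] [Finite C] {Γ : Type*} [Group Γ] [Finite Γ]

theorem eq_one_of_pow_eq_one {p : ℕ} {W : Type*} [Group W] [Finite W]
    (hcop : (Nat.card W).Coprime p) {w : W} (h : w ^ p = 1) : w = 1 := by
  refine orderOf_eq_one_iff.1 (Nat.eq_one_of_dvd_coprimes hcop (orderOf_dvd_natCard w)
    (orderOf_dvd_of_pow_eq_one h))

theorem commute_of_isotropic {p e : ℕ} [hp : Fact p.Prime] (he : 1 ≤ e)
    (hcop : (Nat.card C).Coprime p) (Z0 : Subgroup C) [Z0.Normal]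
    (hZc : Z0 ≤ center C) (hcomm : ∀ a b : C, ⁅a, b⁆ ∈ Z0)
    (φ : Γ →* MulAut C) (hφ : Function.Injective φ) (hinv : ∀ g, ∀ c ∈ Z0, φ g c ∈ Z0)
    (A : Subgroup Γ) (hAc : IsMulCommutative A) (hAp : ∀ a ∈ A, a ^ p = 1)
    (hAfix : ∀ a ∈ A, ∀ c ∈ Z0, φ a c = c)
    (y : Γ) (hy : y ^ p ^ e = 1) (hyA : y ∈ normalizer (A : Set Γ)) (z : Γ)
    (hz : z = y ^ p ^ (e - 1))
    (habel : ∀ U : Subgroup C, IsMulCommutative U → (∀ u ∈ U, φ y u ∈ U) → ∀ u ∈ U, φ z u = u)
    (a₀ : Γ) (ha₀ : a₀ ∈ A) : a₀ * z = z * a₀ := by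
  classical
  have hpp : p.Prime := hp.out
  by_contra hne
  have hzA : z ∈ normalizer (A : Set Γ) := hz ▸ pow_mem hyA _
  have hAcomm : ∀ a ∈ A, ∀ b ∈ A, a * b = b * a := fun a ha b hb =>
    congrArg Subtype.val (hAc.is_comm.comm ⟨a, ha⟩ ⟨b, hb⟩)
  set d := ⁅a₀, z⁆ with hd
  have hd1 : d ≠ 1 := fun h => hne (commutatorElement_eq_one_iff_mul_comm.1 h)
  have hdA : d ∈ A := by
    have h := mul_mem ha₀ ((Subgroup.mem_normalizer_iff.1 hzA a₀⁻¹).1 (inv_mem ha₀))
    convert h using 1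
    rw [hd, commutatorElement_def]
    group
  -- the action on `W = C / Z0`
  letI : CommGroup (C ⧸ Z0) :=
    { (inferInstance : Group (C ⧸ Z0)) with
      mul_comm := fun a b => by
        obtain ⟨a, rfl⟩ := QuotientGroup.mk_surjective a
        obtain ⟨b, rfl⟩ := QuotientGroup.mk_surjective b
        rw [← QuotientGroup.mk_mul, ← QuotientGroup.mk_mul, QuotientGroup.eq]
        have := hcomm b⁻¹ a⁻¹
        rw [show (a * b)⁻¹ * (b * a) = ⁅b⁻¹, a⁻¹⁆ by simp [commutatorElement_def, mul_assoc]]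
        exact this }
  have hmap : ∀ g : Γ, Z0.map ((φ g : MulAut C) : C →* C) = Z0 := fun g =>
    Subgroup.eq_of_le_of_card_ge (by rintro _ ⟨c, hc, rfl⟩; exact hinv g c hc)
      (Subgroup.card_map_of_injective (K := Z0) (φ g).injective).ge
  let σ : Γ →* MulAut (C ⧸ Z0) := MonoidHom.mk'
    (fun g => QuotientGroup.congr Z0 Z0 (φ g) (hmap g))
    (fun g h => MulEquiv.ext fun w => by
      obtain ⟨c, rfl⟩ := QuotientGroup.mk_surjective w
      show ((φ (g * h) c : C) : C ⧸ Z0) = ((φ g (φ h c) : C) : C ⧸ Z0)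
      rw [map_mul, MulAut.mul_apply])
  have hσ : ∀ (g : Γ) (c : C), σ g (c : C ⧸ Z0) = ((φ g c : C) : C ⧸ Z0) := fun _ _ => rfl
  have hσmul : ∀ (g h : Γ) (w : C ⧸ Z0), σ (g * h) w = σ g (σ h w) := fun g h w => by
    rw [map_mul, MulAut.mul_apply]
  have hcopW : (Nat.card (C ⧸ Z0)).Coprime p :=
    hcop.coprime_dvd_left (Subgroup.card_quotient_dvd_card Z0)
  -- the norm
  let N : C ⧸ Z0 → C ⧸ Z0 := fun w => ∏ i ∈ Finset.range p, σ (d ^ i) w
  have hNmul : ∀ v w, N (v * w) = N v * N w := fun v w => by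
    simp only [N, map_mul, Finset.prod_mul_distrib]
  have hNone : N 1 = 1 := by simp [N]
  have hfixN : ∀ w, σ d w = w → N w = 1 → w = 1 := by
    intro w hw hN
    have h : ∀ i : ℕ, σ (d ^ i) w = w := by
      intro i
      induction i with
      | zero => simp
      | succ i ih => rw [pow_succ, hσmul, hw, ih]
    simp only [N, h, Finset.prod_const, Finset.card_range] at hN
    exact eq_one_of_pow_eq_one hcopW hN
  obtain ⟨w₀, hw₀⟩ : ∃ w, σ d w ≠ w := by
    by_contra hall
    push Not at hall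
    refine hd1 (hφ ?_)
    rw [map_one]
    refine MulEquiv.ext fun c => ?_
    have hu : c⁻¹ * φ d c ∈ Z0 := (QuotientGroup.eq).1 ((hσ d c).symm.trans (hall c)).symm
    set u := c⁻¹ * φ d c with hu'
    have hpow : ∀ i : ℕ, φ (d ^ i) c = c * u ^ i := by
      intro i
      induction i with
      | zero => simp
      | succ i ih =>
        rw [pow_succ', map_mul, MulAut.mul_apply, ih, map_mul, map_pow, hAfix d hdA u hu, pow_succ',
          ← mul_assoc c u, hu', mul_inv_cancel_left]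
    have h := hpow p
    rw [hAp d hdA, map_one, MulAut.one_apply, left_eq_mul] at h
    have h1 := eq_one_of_pow_eq_one hcop h
    rw [hu', inv_mul_eq_one] at h1
    simpa using h1.symm
  -- elements of norm one with largest stabiliser
  let Stab : C ⧸ Z0 → Subgroup Γ := fun w => A ⊓
    { carrier := {g | σ g w = w}
      one_mem' := by simp
      mul_mem' := fun {g h} hg hh => by
        show σ (g * h) w = w
        rw [hσmul, hh, hg]
      inv_mem' := fun {g} hg => by
        show σ g⁻¹ w = w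
        conv_lhs => rw [← (hg : σ g w = w)]
        rw [← hσmul, inv_mul_cancel, map_one, MulAut.one_apply] }
  have hStab : ∀ w g, g ∈ Stab w ↔ g ∈ A ∧ σ g w = w := fun _ _ => Iff.rfl
  obtain ⟨w, ⟨hw1, hwN⟩, hwmax⟩ := Set.exists_max_image {w : C ⧸ Z0 | w ≠ 1 ∧ N w = 1}
    (fun w => Nat.card (Stab w)) (Set.toFinite _) ⟨σ d w₀ / w₀, div_ne_one.2 hw₀, by
      have h := Finset.prod_range_div (fun i => σ (d ^ i) w₀) p
      simp only [hAp d hdA, pow_zero, map_one, MulAut.one_apply, div_self'] at h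
      rw [← h]
      refine Finset.prod_congr rfl fun i _ => ?_
      rw [map_div, ← hσmul, ← pow_succ]⟩
  set K := Stab w with hK
  have hKA : K ≤ A := inf_le_left
  have hdK : d ∉ K := fun h => hw1 (hfixN w ((hStab w d).1 h).2 hwN)
  let M : Subgroup (C ⧸ Z0) :=
    { carrier := {m | N m = 1 ∧ ∀ k ∈ K, σ k m = m}
      one_mem' := ⟨hNone, fun k _ => map_one _⟩
      mul_mem' := fun {u v} hu hv => ⟨by rw [hNmul, hu.1, hv.1, one_mul],
        fun k hk => by rw [map_mul, hu.2 k hk, hv.2 k hk]⟩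
      inv_mem' := fun {u} hu => ⟨by
          have := hNmul u⁻¹ u
          rw [inv_mul_cancel, hNone, hu.1, mul_one] at this
          exact this.symm,
        fun k hk => by rw [map_inv, hu.2 k hk]⟩ }
  have hwM : w ∈ M := ⟨hwN, fun k hk => ((hStab w k).1 hk).2⟩
  have hfree : ∀ a ∈ A, a ∉ K → ∀ m ∈ M, σ a m = m → m = 1 := by
    intro a ha haK m hm hfix
    by_contra hm1
    have hle : K ≤ Stab m := fun k hk => ⟨hKA hk, hm.2 k hk⟩
    have heq := Subgroup.eq_of_le_of_card_ge hle (hwmax m ⟨hm1, hm.1⟩)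
    exact haK (heq ▸ ⟨ha, hfix⟩)
  have hMinv : ∀ a ∈ A, ∀ m ∈ M, σ a m ∈ M := by
    intro a ha m hm
    refine ⟨?_, fun k hk => ?_⟩
    · have : N (σ a m) = σ a (N m) := by
        simp only [N, map_prod]
        refine Finset.prod_congr rfl fun i _ => ?_
        rw [← hσmul, ← hσmul, hAcomm _ (pow_mem hdA i) a ha]
      rw [this, hm.1, map_one]
    · rw [← hσmul, hAcomm k (hKA hk) a ha, hσmul, hm.2 k hk]
  let τ : ↥A →* MulAut M := MonoidHom.mk'
    (fun a =>
      { toFun := fun m => ⟨σ a m, hMinv a a.2 m m.2⟩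
        invFun := fun m => ⟨σ (a : Γ)⁻¹ m, hMinv _ (inv_mem a.2) m m.2⟩
        left_inv := fun m => Subtype.ext (by
          show σ (a : Γ)⁻¹ (σ a m) = m
          rw [← hσmul, inv_mul_cancel, map_one, MulAut.one_apply])
        right_inv := fun m => Subtype.ext (by
          show σ (a : Γ) (σ (a : Γ)⁻¹ m) = m
          rw [← hσmul, mul_inv_cancel, map_one, MulAut.one_apply])
        map_mul' := fun m n => Subtype.ext (map_mul (σ a) (m : C ⧸ Z0) n) })
    (fun a b => MulEquiv.ext fun m => Subtype.ext (hσmul a b m))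
  have hτ : ∀ (a : ↥A) (m : M), (τ a m : C ⧸ Z0) = σ a m := fun _ _ => rfl
  -- `A / K` has order `p`
  have hpair : ∀ a ∈ A, a ∉ K → ∀ b ∈ A, ∃ i : ℕ, b * a ^ i ∈ K := by
    intro a ha haK b hb
    by_contra hall
    push Not at hall
    have h := CfsgLib.Coprime.eq_one_of_fixedPointFree_pair (W := ↥M) hpp
      (fun m hm => eq_one_of_pow_eq_one (hcopW.coprime_dvd_left M.card_subgroup_dvd_card) hm)
      (τ ⟨b, hb⟩) (τ ⟨a, ha⟩)
      ((show Commute (⟨b, hb⟩ : ↥A) ⟨a, ha⟩ from Subtype.ext (hAcomm b hb a ha)).map τ)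
      (by rw [← map_pow, show (⟨b, hb⟩ : ↥A) ^ p = 1 from Subtype.ext (hAp b hb), map_one])
      (by rw [← map_pow, show (⟨a, ha⟩ : ↥A) ^ p = 1 from Subtype.ext (hAp a ha), map_one])
      (fun m hm => Subtype.ext (hfree a ha haK m m.2 (congrArg Subtype.val hm)))
      (fun i _ m hm => Subtype.ext (hfree _ (mul_mem hb (pow_mem ha i)) (hall i) m m.2 (by
        rw [← map_pow, ← map_mul] at hm
        exact congrArg Subtype.val hm)))
      ⟨w, hwM⟩
    exact hw1 (congrArg Subtype.val h)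
  -- `z` moves `K`
  have hmove : ¬ ∀ k ∈ K, z * k * z⁻¹ ∈ K := by
    intro hzK
    have hzKn : ∀ (t : ℕ) {k : Γ}, k ∈ K → z ^ t * k * (z ^ t)⁻¹ ∈ K := by
      intro t
      induction t with
      | zero => intro k hk; simpa using hk
      | succ t ih =>
        intro k hk
        have := hzK _ (ih hk)
        convert this using 1
        rw [pow_succ']; group
    have key : ∀ a ∈ A, a⁻¹ * (z * a * z⁻¹) ∈ K := by
      intro a ha
      by_cases haK : a ∈ K
      · exact mul_mem (inv_mem haK) (hzK a haK)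
      obtain ⟨i, hi⟩ := hpair a ha haK (z * a * z⁻¹) ((Subgroup.mem_normalizer_iff.1 hzA a).1 ha)
      set n : ℤ := -(i : ℤ) with hn
      have hn' : z * a * z⁻¹ * a ^ (-n) ∈ K := by rwa [hn, neg_neg, zpow_natCast]
      have hpow : ∀ t : ℕ, z ^ t * a * (z ^ t)⁻¹ * a ^ (-(n ^ t)) ∈ K := by
        intro t
        induction t with
        | zero => simp
        | succ t ih =>
          have h1 := hzK _ ih
          have hza : z * a * z⁻¹ ∈ A := (Subgroup.mem_normalizer_iff.1 hzA a).1 ha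
          have h2 := zpow_mem hn' (n ^ t)
          rw [(show Commute (z * a * z⁻¹) (a ^ (-n)) from
            hAcomm _ hza _ (zpow_mem ha _)).mul_zpow, ← zpow_mul] at h2
          have h3 := mul_mem h1 h2
          convert h3 using 1
          rw [pow_succ n, conj_zpow, show -n * n ^ t = -(n ^ t * n) by ring, pow_succ']
          group
      have h := hpow p
      have hzp : z ^ p = 1 := by rw [hz, ← pow_mul, ← pow_succ, Nat.sub_add_cancel he, hy]
      rw [hzp, one_mul, inv_one, mul_one, ← zpow_one_add] at h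
      have hdvd : (p : ℤ) ∣ 1 + -(n ^ p) := by
        by_contra hnd
        obtain ⟨r, s, hrs⟩ :=
          ((Nat.prime_iff_prime_int.1 hpp).coprime_iff_not_dvd.2 hnd).symm
        refine haK ?_
        have h4 := zpow_mem h r
        rw [← zpow_mul, mul_comm] at h4
        have h5 : a ^ (s * (p : ℤ)) = 1 := by
          rw [mul_comm, zpow_mul, zpow_natCast, hAp a ha, one_zpow]
        have h6 : a = a ^ (r * (1 + -(n ^ p))) * a ^ (s * (p : ℤ)) := by
          rw [← zpow_add, hrs, zpow_one]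
        rw [h5, mul_one] at h6
        exact h6 ▸ h4
      have hdvd' : (p : ℤ) ∣ -1 + n := by
        rw [← ZMod.intCast_zmod_eq_zero_iff_dvd] at hdvd ⊢
        push_cast at hdvd ⊢
        rw [ZMod.pow_card] at hdvd
        linear_combination -hdvd
      have han : a⁻¹ * a ^ n = 1 := by
        obtain ⟨c, hc⟩ := hdvd'
        rw [← zpow_neg_one, ← zpow_add, hc, zpow_mul, zpow_natCast, hAp a ha, one_zpow]
      have hn'' : z * a * z⁻¹ * a⁻¹ ∈ K := by
        rwa [zpow_neg, ← (inv_mul_eq_one.1 han)] at hn'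
      rwa [hAcomm _ (inv_mem ha) _ ((Subgroup.mem_normalizer_iff.1 hzA a).1 ha)]
    refine hdK ?_
    have h := key a₀⁻¹ (inv_mem ha₀)
    convert h using 1
    rw [hd, commutatorElement_def]
    group
  -- the conjugates of `K` by powers of `y`
  have hmoveN : ∀ n : ℕ, 0 < n → n < p ^ e → ∃ k ∈ K, y ^ n * k * (y ^ n)⁻¹ ∉ K := by
    intro n hn0 hn
    by_contra hall
    push Not at hall
    refine hmove ?_
    let S : Subgroup Γ := normalizer (K : Set Γ)
    have hS : y ^ n ∈ S := Subgroup.mem_normalizer_fintype hall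
    obtain ⟨j, hj, hjg⟩ := (Nat.dvd_prime_pow hpp).1 (Nat.gcd_dvd_right n (p ^ e))
    have hje : j ≤ e - 1 := by
      rcases Nat.lt_or_ge j e with h | h
      · omega
      · exfalso
        have h1 : p ^ e ∣ n := by
          refine dvd_trans ?_ (Nat.gcd_dvd_left n (p ^ e))
          rw [hjg]; exact pow_dvd_pow p h
        exact absurd (Nat.le_of_dvd hn0 h1) (not_le.2 hn)
    have hg : y ^ Nat.gcd n (p ^ e) ∈ S := by
      rw [← zpow_natCast y, Nat.gcd_eq_gcd_ab, zpow_add, zpow_mul, zpow_mul, zpow_natCast,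
        zpow_natCast, hy, one_zpow, mul_one]
      exact zpow_mem hS _
    have hzS : z ∈ S := by
      rw [hz, ← Nat.add_sub_cancel' hje, pow_add, pow_mul, ← hjg]
      exact pow_mem hg _
    exact fun k hk => (Subgroup.mem_normalizer_iff.1 hzS k).1 hk
  obtain ⟨v, rfl⟩ := QuotientGroup.mk_surjective w
  let f : ℕ → C := fun n => φ (y ^ n) v
  have hcomm0 : ∀ n, 0 < n → n < p ^ e → Commute v (f n) := by
    intro n hn0 hn
    obtain ⟨k, hk, hk'⟩ := hmoveN n hn0 hn
    set k' := y ^ n * k * (y ^ n)⁻¹ with hk'def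
    have hk'A : k' ∈ A := (Subgroup.mem_normalizer_iff.1 (pow_mem hyA n) k).1 (hKA hk)
    have hfixn : σ k' (f n : C ⧸ Z0) = (f n : C ⧸ Z0) := by
      rw [show ((f n : C) : C ⧸ Z0) = σ (y ^ n) (v : C ⧸ Z0) from rfl, ← hσmul, hk'def,
        inv_mul_cancel_right, hσmul, hwM.2 k hk]
    let F : M → M := fun m => ⟨σ k' m * (m : C ⧸ Z0)⁻¹, mul_mem (hMinv k' hk'A m m.2) (inv_mem m.2)⟩
    have hFinj : Function.Injective F := by
      intro m m' hmm
      have h : σ k' m * (m : C ⧸ Z0)⁻¹ = σ k' m' * (m' : C ⧸ Z0)⁻¹ := congrArg Subtype.val hmm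
      have h1 : σ k' ((m : C ⧸ Z0) * (m' : C ⧸ Z0)⁻¹) = (m : C ⧸ Z0) * (m' : C ⧸ Z0)⁻¹ := by
        rw [map_mul, map_inv]
        rw [mul_inv_eq_iff_eq_mul] at h
        rw [h, mul_inv_eq_iff_eq_mul]
        ac_rfl
      exact Subtype.ext (mul_inv_eq_one.1 (hfree k' hk'A hk' _ (mul_mem m.2 (inv_mem m'.2)) h1))
    obtain ⟨⟨m, hmM⟩, hm⟩ := Finite.surjective_of_injective hFinj ⟨(v : C ⧸ Z0), hwM⟩
    obtain ⟨m, rfl⟩ := QuotientGroup.mk_surjective m
    have hm' : ((φ k' m * m⁻¹ : C) : C ⧸ Z0) = (v : C ⧸ Z0) := congrArg Subtype.val hm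
    have hz0 := QuotientGroup.eq.1 hm'
    set c := ⁅m, f n⁆ with hc
    have hc' : ⁅φ k' m, f n⁆ = c := by
      have hz1 := hZc (QuotientGroup.eq.1 hfixn)
      have e1 : φ k' c = c := hAfix k' hk'A c (hcomm _ _)
      rw [hc, ← MulEquiv.coe_toMonoidHom, map_commutatorElement, MulEquiv.coe_toMonoidHom] at e1
      rw [hc, ← e1]
      set z1 := (φ k' (f n))⁻¹ * f n with hz1'
      have hz1c : ∀ g, g * z1 = z1 * g := Subgroup.mem_center_iff.1 hz1
      have hfn : f n = φ k' (f n) * z1 := by rw [hz1', mul_inv_cancel_left]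
      conv_lhs => rw [hfn]
      rw [commutatorElement_mul_right_eq_mul_conj,
        commutatorElement_eq_one_iff_mul_comm.2 (hz1c (φ k' m)), mul_one, mul_inv_cancel_right]
    have hcc : ∀ g, g * c = c * g := Subgroup.mem_center_iff.1 (hZc (hcomm _ _))
    have hu : Commute (φ k' m * m⁻¹) (f n) := by
      have e2 : φ k' m * f n = c * (f n * φ k' m) := by
        rw [← hc', commutatorElement_def]; group
      have e4 : m⁻¹ * f n = c⁻¹ * (f n * m⁻¹) := by
        have e3 : f n = c⁻¹ * (m * f n * m⁻¹) := by rw [hc, commutatorElement_def]; group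
        conv_lhs => rw [e3]
        rw [← mul_assoc, (Commute.inv_right (hcc m⁻¹)).eq, mul_assoc, mul_assoc m,
          inv_mul_cancel_left]
      show φ k' m * m⁻¹ * f n = f n * (φ k' m * m⁻¹)
      rw [mul_assoc, e4, ← mul_assoc, (Commute.inv_right (hcc (φ k' m))).eq, mul_assoc c⁻¹,
        ← mul_assoc (φ k' m), e2, mul_assoc c, inv_mul_cancel_left, mul_assoc]
    have hv : v = (φ k' m * m⁻¹) * ((φ k' m * m⁻¹)⁻¹ * v) := by rw [mul_inv_cancel_left]
    rw [hv]
    exact hu.mul_left ((Subgroup.mem_center_iff.1 (hZc hz0) (f n)).symm)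
  have hf : ∀ i j, Commute (f i) (f j) := by
    have hper : ∀ i, f i = f (i % p ^ e) := fun i => by
      simp only [f, ← pow_eq_pow_mod i hy]
    have hlt : ∀ i j, i ≤ j → j < p ^ e → Commute (f i) (f j) := by
      intro i j hij hj
      rcases hij.eq_or_lt with rfl | hlt
      · exact Commute.refl _
      have h := (hcomm0 (j - i) (by omega) (by omega)).map (φ (y ^ i)).toMonoidHom
      simp only [MulEquiv.coe_toMonoidHom, f, ← MulAut.mul_apply, ← map_mul, ← pow_add] at h
      rwa [Nat.add_sub_cancel' hij] at h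
    intro i j
    rw [hper i, hper j]
    rcases le_total (i % p ^ e) (j % p ^ e) with h | h
    · exact hlt _ _ h (Nat.mod_lt _ (pow_pos hpp.pos _))
    · exact (hlt _ _ h (Nat.mod_lt _ (pow_pos hpp.pos _))).symm
  let U := Subgroup.closure (Set.range f)
  have hU : IsMulCommutative U := by
    have h1 : U ≤ centralizer (Set.range f) := (closure_le _).2 (by
      rintro _ ⟨i, rfl⟩ _ ⟨j, rfl⟩
      exact (hf j i).eq)
    have h2 : U ≤ centralizer (U : Set C) := (closure_le _).2 (by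
      rintro _ ⟨i, rfl⟩ u hu
      exact ((h1 hu) (f i) ⟨i, rfl⟩).symm)
    exact ⟨⟨fun a b => Subtype.ext ((h2 b.2) a a.2)⟩⟩
  have hUy : ∀ u ∈ U, φ y u ∈ U := by
    have h : U ≤ U.comap (φ y).toMonoidHom := (closure_le _).2 (by
      rintro _ ⟨i, rfl⟩
      refine subset_closure ⟨i + 1, ?_⟩
      show φ (y ^ (i + 1)) v = φ y (φ (y ^ i) v)
      rw [pow_succ', map_mul, MulAut.mul_apply])
    exact fun u hu => h hu
  have hzv : φ z v = v := habel U hU hUy v (subset_closure ⟨0, by simp [f]⟩)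
  refine hmove fun k hk => ⟨(Subgroup.mem_normalizer_iff.1 hzA k).1 (hKA hk), ?_⟩
  show σ (z * k * z⁻¹) (v : C ⧸ Z0) = v
  have hzw : σ z (v : C ⧸ Z0) = v := by rw [hσ, hzv]
  have hzw' : σ z⁻¹ (v : C ⧸ Z0) = v := by
    conv_lhs => rw [← hzw]
    rw [← hσmul, inv_mul_cancel, map_one, MulAut.one_apply]
  rw [hσmul, hσmul, hzw', hwM.2 k hk, hzw]

end CfsgLib.PLocal.ExpPLength
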