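import Mathlib
import Cfsg.Agent.Lib.PLocal.ExpPLength.Isotropic
import Cfsg.Agent.Lib.PLocal.ExpPLength.Alperin
import Cfsg.Agent.Lib.PLocal.HallHigmanFrattini
import Cfsg.Agent.Lib.FgsC.HallHigmanB
import Cfsg.Agent.Lib.PGroups.Critical

/-!
For `p` odd a `p`-soluble group with Sylow `p`-subgroups of exponent `p ^ e` has `p`-length at
most `2 e`: the elements `y ^ p ^ (e - 1)` commute modulo `O_{p',p}`, which by Theorem B forces
them into the next `O_{p',p}`.
-/

set_option autoImplicit false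
set_option linter.unusedSectionVars false
set_option linter.style.haveILetI false

namespace CfsgLib.PLocal.ExpPLength

open Subgroup Cfsg CfsgLib.Base
open scoped commutatorElement

universe u

variable {p : ℕ} [hp : Fact p.Prime]

theorem top_mem_zpowers_pow {Γ : Type*} [Group Γ] {y : Γ} {e n : ℕ} (hy : y ^ p ^ e = 1)
    (hn : y ^ n ≠ 1) : y ^ p ^ (e - 1) ∈ zpowers (y ^ n) := by
  have hpp : p.Prime := hp.out
  obtain ⟨j, hj, hjg⟩ := (Nat.dvd_prime_pow hpp).1 (Nat.gcd_dvd_right n (p ^ e))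
  have hje : j ≤ e - 1 := by
    rcases Nat.lt_or_ge j e with h | h
    · omega
    · exfalso
      obtain ⟨c, hc⟩ : p ^ e ∣ n :=
        dvd_trans (hjg ▸ pow_dvd_pow p h) (Nat.gcd_dvd_left n (p ^ e))
      exact hn (by rw [hc, pow_mul, hy, one_pow])
  have hg : y ^ Nat.gcd n (p ^ e) ∈ zpowers (y ^ n) := by
    rw [← zpow_natCast y (Nat.gcd n (p ^ e)), Nat.gcd_eq_gcd_ab, zpow_add, zpow_mul, zpow_mul,
      zpow_natCast y n, zpow_natCast y (p ^ e), hy, one_zpow, mul_one]
    exact zpow_mem (mem_zpowers _) _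
  rw [← Nat.add_sub_cancel' hje, pow_add, pow_mul, ← hjg]
  exact pow_mem hg _

/-- The `z`'s of a group of automorphisms of a group of class two commute. -/
theorem top_commute {C : Type*} [Group C] [Finite C] {e : ℕ} (he : 1 ≤ e) (hp2 : p ≠ 2)
    (hcop : (Nat.card C).Coprime p) (hcomm : ∀ a b : C, ⁅a, b⁆ ∈ center C)
    (P : Subgroup (MulAut C)) (hP : IsPGroup p P) (hexp : ∀ g ∈ P, g ^ p ^ e = 1)
    (habel : ∀ y ∈ P, ∀ U : Subgroup C, IsMulCommutative U → (∀ u ∈ U, y u ∈ U) →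
      ∀ u ∈ U, (y ^ p ^ (e - 1) : MulAut C) u = u)
    (y y' : MulAut C) (hy : y ∈ P) (hy' : y' ∈ P) :
    Commute (y ^ p ^ (e - 1)) (y' ^ p ^ (e - 1)) := by
  classical
  have hinv : ∀ (g : MulAut C), ∀ c ∈ center C, g c ∈ center C := fun g c hc => by
    rw [Subgroup.mem_center_iff] at hc ⊢
    intro x
    conv_lhs => rw [← g.apply_symm_apply x, ← map_mul, hc, map_mul, g.apply_symm_apply]
  let T0 : Subgroup P :=
    { carrier := {g | ∀ c ∈ center C, (g : MulAut C) c = c}
      one_mem' := fun c _ => rfl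
      mul_mem' := fun {a b} ha hb c hc => by
        show (a : MulAut C) ((b : MulAut C) c) = c
        rw [hb c hc, ha c hc]
      inv_mem' := fun {a} ha c hc => by
        show (a : MulAut C)⁻¹ c = c
        conv_lhs => rw [← ha c hc]
        exact MulAut.inv_apply_self _ _ _ }
  haveI hT0 : T0.Normal := ⟨fun g hg h c hc => by
    show (h : MulAut C) ((g : MulAut C) ((h : MulAut C)⁻¹ c)) = c
    rw [hg _ (hinv _ c hc), MulAut.apply_inv_self]⟩
  obtain ⟨A, hA⟩ := Set.Finite.exists_maximal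
    (s := {A : Subgroup P | A ≤ T0 ∧ A.Normal ∧ IsMulCommutative A ∧ ∀ a ∈ A, a ^ p = 1})
    (Set.toFinite _) ⟨⊥, bot_le, inferInstance,
      ⟨⟨fun a b => Subsingleton.elim _ _⟩⟩,
      fun a ha => by rw [Subgroup.mem_bot.1 ha, one_pow]⟩
  obtain ⟨hA0, hAn, hAc, hAp⟩ := hA.1
  haveI := hAn
  have key : ∀ g : P, g ^ p ^ (e - 1) ∈ A := by
    intro g
    set z := g ^ p ^ (e - 1) with hz
    have hg : g ^ p ^ e = 1 := Subtype.ext (hexp g g.2)
    have hz0 : z ∈ T0 := fun c hc => by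
      rw [hz, Subgroup.coe_pow]
      exact habel g g.2 (center C) inferInstance (fun u hu => hinv _ u hu) c hc
    have hzC : z ∈ centralizer (A : Set P) := fun a ha =>
      commute_of_isotropic he hcop (center C) le_rfl hcomm P.subtype P.subtype_injective
        (fun g c hc => hinv _ c hc) A hAc hAp (fun a ha => hA0 ha) g hg
        (by rw [Subgroup.normalizer_eq_top]; trivial) z hz
        (fun U hU hUy u hu => by
          show (z : MulAut C) u = u
          rw [hz, Subgroup.coe_pow]; exact habel g g.2 U hU hUy u hu) a ha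
    refine mem_of_maximal_in (n := 1) hP (by rw [pow_one]; exact hp2) hA0 hAc
      (by simpa using hAp) (fun B hB0 hBn hBc hBp hAB => le_antisymm (hA.2 ⟨hB0, hBn, hBc, by
        simpa using hBp⟩ hAB) hAB) hzC ?_ hz0
    rw [pow_one, hz, ← pow_mul, ← pow_succ, Nat.sub_add_cancel he, hg]
  exact (congrArg Subtype.val (congrArg Subtype.val
    (hAc.is_comm.comm ⟨_, key ⟨y, hy⟩⟩ ⟨_, key ⟨y', hy'⟩⟩)) :)

/-- The `z`'s commute on an invariant `q`-subgroup. -/
theorem commutator_centralises {H : Type*} [Group H] [Finite H] {e q : ℕ} [Fact q.Prime]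
    (he : 1 ≤ e) (hp2 : p ≠ 2) (hqp : q ≠ p) {S T : Subgroup H} (hS : IsPGroup q S)
    (hT : IsPGroup p T) (hTS : T ≤ normalizer (S : Set H)) (hexp : ∀ t ∈ T, t ^ p ^ e = 1)
    (habel : ∀ y ∈ T, ∀ U : Subgroup H, U ≤ S → IsMulCommutative U → y ∈ normalizer (U : Set H) →
      ∀ u ∈ U, Commute (y ^ p ^ (e - 1)) u)
    {y y' : H} (hy : y ∈ T) (hy' : y' ∈ T) :
    ∀ s ∈ S, Commute ⁅y ^ p ^ (e - 1), y' ^ p ^ (e - 1)⁆ s := by
  classical
  obtain ⟨C, hCc, -, hC1, hC2⟩ := CfsgLib.PGroups.exists_critical hS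
  haveI := hCc
  let φ : ↥T →* MulAut S := (Subgroup.normalizerMonoidHom S).comp (Subgroup.inclusion hTS)
  have hφ : ∀ (t : T) (s : S), (φ t s : H) = t * s * (t : H)⁻¹ := fun _ _ => rfl
  have hmem : ∀ (t : T) {c : S}, c ∈ C → φ t c ∈ C := fun t c hc =>
    (Subgroup.characteristic_iff_map_le.1 hCc (φ t)) ⟨c, hc, rfl⟩
  let ψ : ↥T →* MulAut C := MonoidHom.mk'
    (fun t =>
      { toFun := fun c => ⟨φ t c, hmem t c.2⟩
        invFun := fun c => ⟨φ t⁻¹ c, hmem t⁻¹ c.2⟩
        left_inv := fun c => Subtype.ext (by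
          show φ t⁻¹ (φ t c) = c
          rw [← MulAut.mul_apply, ← map_mul, inv_mul_cancel, map_one, MulAut.one_apply])
        right_inv := fun c => Subtype.ext (by
          show φ t (φ t⁻¹ c) = c
          rw [← MulAut.mul_apply, ← map_mul, mul_inv_cancel, map_one, MulAut.one_apply])
        map_mul' := fun c d => Subtype.ext (map_mul (φ t) (c : S) d) })
    (fun t u => MulEquiv.ext fun c => Subtype.ext (by
      show φ (t * u) c = φ t (φ u c)
      rw [map_mul, MulAut.mul_apply]))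
  have hψ : ∀ (t : T) (c : C), (((ψ t c : C) : S) : H) = t * ((c : S) : H) * (t : H)⁻¹ :=
    fun _ _ => rfl
  have hcopC : (Nat.card C).Coprime p := by
    obtain ⟨k, hk⟩ := IsPGroup.iff_card.1 (hS.to_subgroup C)
    rw [hk]
    exact ((Nat.coprime_primes Fact.out hp.out).2 hqp).pow_left k
  have hcomm : ∀ a b : C, ⁅a, b⁆ ∈ center C := by
    intro a b
    have h := hC1 (commutator_mem_commutator a.2 (mem_top (b : S)))
    rw [Subgroup.mem_center_iff]
    intro c
    exact Subtype.ext (h.2 c c.2)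
  set x : T := ⁅(⟨y, hy⟩ : T) ^ p ^ (e - 1), (⟨y', hy'⟩ : T) ^ p ^ (e - 1)⁆ with hx
  have hψx : ψ x = 1 := by
    rw [hx, map_commutatorElement, map_pow, map_pow, commutatorElement_eq_one_iff_commute]
    refine top_commute he hp2 hcopC hcomm ψ.range (hT.of_surjective _ ψ.rangeRestrict_surjective)
      ?_ ?_ _ _ ⟨_, rfl⟩ ⟨_, rfl⟩
    · rintro _ ⟨t, rfl⟩
      rw [← map_pow, show t ^ p ^ e = 1 from Subtype.ext (hexp t t.2), map_one]
    · rintro _ ⟨t, rfl⟩ U hU hUy u hu
      let U' : Subgroup H := U.map (S.subtype.comp C.subtype)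
      have hU' : IsMulCommutative U' := Subgroup.map_isMulCommutative _ _
      have hle : U' ≤ S := by rintro _ ⟨v, -, rfl⟩; exact (v : S).2
      have hn : (t : H) ∈ normalizer (U' : Set H) := Subgroup.mem_normalizer_fintype (by
        rintro _ ⟨v, hv, rfl⟩
        exact ⟨ψ t v, hUy v hv, hψ t v⟩)
      have h := habel t t.2 U' hle hU' hn _ ⟨u, hu, rfl⟩
      rw [← map_pow]
      refine Subtype.ext (Subtype.ext ?_)
      rw [hψ, Subgroup.coe_pow, mul_inv_eq_iff_eq_mul]
      exact h.eq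
  intro s hs
  have hfix : ∀ c ∈ C, φ x c = c := fun c hc => by
    have := congrArg (fun α : MulAut C => ((α ⟨c, hc⟩ : C) : S)) hψx
    simpa [ψ] using this
  set v : S := ⟨s, hs⟩ with hv
  set u : S := v⁻¹ * φ x v with hu
  have huC : u ∈ C := by
    refine hC2 (Subgroup.mem_centralizer_iff.2 fun c hc => ?_)
    have h2 := hfix _ ((inferInstance : C.Normal).conj_mem c hc v)
    rw [map_mul, map_mul, map_inv, hfix c hc] at h2
    rw [hu]
    calc c * (v⁻¹ * φ x v) = v⁻¹ * (v * c * v⁻¹) * φ x v := by group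
      _ = v⁻¹ * (φ x v * c * (φ x v)⁻¹) * φ x v := by rw [h2]
      _ = _ := by group
  have hpow : ∀ i : ℕ, φ (x ^ i) v = v * u ^ i := by
    intro i
    induction i with
    | zero => simp
    | succ i ih =>
      rw [pow_succ', map_mul, MulAut.mul_apply, ih, map_mul, map_pow, hfix u huC, pow_succ',
        ← mul_assoc v u, hu, mul_inv_cancel_left]
  have h := hpow (p ^ e)
  rw [show x ^ p ^ e = 1 from Subtype.ext (hexp x x.2), map_one, MulAut.one_apply, left_eq_mul] at h
  have hu1 : u = 1 := by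
    obtain ⟨k, hk⟩ := hS u
    exact orderOf_eq_one_iff.1 (Nat.eq_one_of_dvd_coprimes
      (((Nat.coprime_primes (Fact.out : q.Prime) hp.out).2 hqp).pow k e)
      (orderOf_dvd_of_pow_eq_one hk) (orderOf_dvd_of_pow_eq_one h))
  rw [hu, inv_mul_eq_one] at hu1
  have h3 := congrArg Subtype.val hu1.symm
  rw [hφ] at h3
  show _ * s = s * _
  have h4 : (x : H) = ⁅y ^ p ^ (e - 1), y' ^ p ^ (e - 1)⁆ := by
    rw [hx, ← Subgroup.coe_subtype, map_commutatorElement]; rfl
  rw [← h4]
  exact mul_inv_eq_iff_eq_mul.1 h3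

section Linear

variable {V : Type*} [AddCommGroup V] [Module (ZMod p) V] [Finite V]

/-- Theorem B as a bound on the index of nilpotency. -/
theorem degree_bound [Nontrivial V] (H : Subgroup (V ≃ₗ[ZMod p] V)) [Finite H]
    (hsol : IsPSolvable p H) (hOp : pCore p H = ⊥) {x : V ≃ₗ[ZMod p] V} (hx : x ∈ H) {n : ℕ}
    (hn : orderOf x = p ^ n) {j : ℕ} (hj : ((x : Module.End (ZMod p) V) - 1) ^ j = 0) :
    p ^ n ≤ j ∨ ∃ n₀ q m : ℕ, 1 ≤ n₀ ∧ n₀ ≤ n ∧ q.Prime ∧ 1 ≤ m ∧ p ^ n₀ - 1 = q ^ m ∧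
      (∀ Q : Sylow q H, ¬ IsMulCommutative Q) ∧ p ^ (n - n₀) * (p ^ n₀ - 1) ≤ j := by
  classical
  have hprime : Prime (Polynomial.X - 1 : Polynomial (ZMod p)) := by
    rw [← Polynomial.C_1]; exact Polynomial.prime_X_sub_C 1
  have hmonic : (Polynomial.X - 1 : Polynomial (ZMod p)).Monic := by
    rw [← Polynomial.C_1]; exact Polynomial.monic_X_sub_C 1
  obtain ⟨r, hrj, hr⟩ := (dvd_prime_pow hprime _).1 (minpoly.dvd (ZMod p)
    (x : Module.End (ZMod p) V) (p := (Polynomial.X - 1) ^ j) (by simpa using hj))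
  have hr' : minpoly (ZMod p) (x : Module.End (ZMod p) V) = (Polynomial.X - 1) ^ r :=
    Polynomial.eq_of_monic_of_associated (minpoly.monic (Algebra.IsIntegral.isIntegral _))
      (hmonic.pow r) hr
  rcases Cfsg.Agent.S0633.result H hsol hOp x hx n hn r hr' with h |
    ⟨n₀, q, m, h1, h2, h3, h4, h5, h6, h7⟩
  · exact Or.inl (h ▸ hrj)
  · exact Or.inr ⟨n₀, q, m, h1, h2, h3, h4, h5, h6, h7.trans hrj⟩

theorem end_sub_one_pow (x : V ≃ₗ[ZMod p] V) {k : ℕ} :
    ((x : Module.End (ZMod p) V) - 1) ^ p ^ k = ((x ^ p ^ k : V ≃ₗ[ZMod p] V) : Module.End (ZMod p) V) - 1 := by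
  rcases subsingleton_or_nontrivial V with h | h
  · exact Subsingleton.elim _ _
  haveI : CharP (Module.End (ZMod p) V) p :=
    charP_of_injective_algebraMap (algebraMap (ZMod p) (Module.End (ZMod p) V)).injective p
  rw [sub_pow_char_pow_of_commute (R := Module.End (ZMod p) V) p k (Commute.one_right _), one_pow]
  congr 1
  exact (map_pow (LinearEquiv.automorphismGroup.toLinearMapMonoidHom) x _).symm

/-- An element of deficient degree: its `z` centralises invariant `q`-groups of odd order and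
invariant abelian `2`-groups. -/
theorem deficient_centralises {e q : ℕ} [Fact q.Prime] (hp2 : p ≠ 2) (he : 1 ≤ e) (hqp : q ≠ p)
    (H : Subgroup (V ≃ₗ[ZMod p] V)) (hsol : IsPSolvable p H) {x : V ≃ₗ[ZMod p] V} (hxH : x ∈ H)
    (hxe : x ^ p ^ e = 1) (hdef : ((x : Module.End (ZMod p) V) - 1) ^ (p ^ e - 1) = 0)
    {U : Subgroup (V ≃ₗ[ZMod p] V)} (hUH : U ≤ H) (hU : IsPGroup q U)
    (hxU : x ∈ normalizer (U : Set (V ≃ₗ[ZMod p] V))) (hq : q ≠ 2 ∨ IsMulCommutative U) :
    ∀ u ∈ U, Commute (x ^ p ^ (e - 1)) u := by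
  classical
  haveI : Finite (V ≃ₗ[ZMod p] V) := DFunLike.finite _
  have hpp : p.Prime := hp.out
  by_contra hall
  set z := x ^ p ^ (e - 1) with hz
  have hz1 : z ≠ 1 := fun h => hall fun u _ => by rw [h]; exact Commute.one_left u
  have hord : orderOf x = p ^ e := by
    obtain ⟨e', rfl⟩ : ∃ e', e = e' + 1 := ⟨e - 1, by omega⟩
    exact orderOf_eq_prime_pow (by simpa [hz] using hz1) hxe
  haveI : Nontrivial V := by
    by_contra h
    rw [not_nontrivial_iff_subsingleton] at h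
    exact hz1 (LinearEquiv.ext fun v => Subsingleton.elim _ _)
  have hxn : zpowers x ≤ normalizer (U : Set (V ≃ₗ[ZMod p] V)) := zpowers_le.2 hxU
  have hxp : IsPGroup p (zpowers x) := IsPGroup.of_card (n := e) (by rw [Nat.card_zpowers, hord])
  set L := U ⊔ zpowers x with hL
  have hUL : U ≤ L := le_sup_left
  have hxL : x ∈ L := le_sup_right (a := U) (mem_zpowers x)
  have hdis : ∀ g : V ≃ₗ[ZMod p] V, ∀ a b : ℕ, g ^ p ^ a = 1 → g ^ q ^ b = 1 → g = 1 :=
    fun g a b h1 h2 => orderOf_eq_one_iff.1 (Nat.eq_one_of_dvd_coprimes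
      (((Nat.coprime_primes hpp Fact.out).2 hqp.symm).pow a b)
      (orderOf_dvd_of_pow_eq_one h1) (orderOf_dvd_of_pow_eq_one h2))
  have hsplit : ∀ g ∈ L, ∃ u ∈ U, ∃ i : ℤ, g = u * x ^ i := by
    intro g hg
    rw [hL, ← SetLike.mem_coe, Subgroup.coe_mul_of_right_le_normalizer_left U (zpowers x) hxn] at hg
    obtain ⟨u, hu, w, ⟨i, rfl⟩, rfl⟩ := hg
    exact ⟨u, hu, i, rfl⟩
  -- `O_p(L) = 1`
  have hOp : pCore p L = ⊥ := by
    by_contra hne
    obtain ⟨P, hP⟩ := (hxp.comap_subtype (K := L)).exists_le_sylow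
    have hPx : ∀ g : L, g ∈ (P : Subgroup L) → (g : V ≃ₗ[ZMod p] V) ∈ zpowers x := by
      intro g hg
      obtain ⟨u, hu, i, hgu⟩ := hsplit g g.2
      obtain ⟨a, ha⟩ := P.2 ⟨_, mul_mem hg (inv_mem (zpow_mem
        (hP (show (⟨x, hxL⟩ : L) ∈ (zpowers x).comap L.subtype from mem_zpowers x)) i))⟩
      obtain ⟨b, hb⟩ := hU ⟨u, hu⟩
      have hua : u ^ p ^ a = 1 := by
        have h := congrArg (fun t : ↥(P : Subgroup L) => ((t : L) : V ≃ₗ[ZMod p] V)) ha
        simpa [hgu] using h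
      rw [hgu, hdis u a b hua (congrArg Subtype.val hb), one_mul]
      exact zpow_mem (mem_zpowers x) i
    obtain ⟨g, hg, hg1⟩ := (Subgroup.ne_bot_iff_exists_ne_one.1 hne : ∃ g : ↥(pCore p L), g ≠ 1) |>
      fun ⟨g, hg⟩ => (⟨g.1, g.2, fun h => hg (Subtype.ext h)⟩ : ∃ g : L, g ∈ pCore p L ∧ g ≠ 1)
    obtain ⟨n, hn⟩ := mem_zpowers_iff.1 (hPx g (pCore_le_sylow P hg))
    obtain ⟨m, hm⟩ : ∃ m : ℕ, (g : V ≃ₗ[ZMod p] V) = x ^ m :=
      ⟨(n % (orderOf x : ℤ)).toNat, by
        rw [← hn, ← zpow_natCast, Int.toNat_of_nonneg (Int.emod_nonneg _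
          (by exact_mod_cast (orderOf_pos x).ne')), zpow_mod_orderOf]⟩
    have hzO : (⟨z, pow_mem hxL _⟩ : L) ∈ pCore p L := by
      have h := top_mem_zpowers_pow hxe (n := m) (by
        rw [← hm]; exact fun h => hg1 (Subtype.ext h))
      obtain ⟨j, hj⟩ := mem_zpowers_iff.1 h
      rw [← hm] at hj
      have he' : (⟨z, pow_mem hxL _⟩ : L) = g ^ j := Subtype.ext (by
        show z = ((g ^ j : L) : V ≃ₗ[ZMod p] V)
        rw [Subgroup.coe_zpow]
        exact hj.symm)
      rw [he']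
      exact zpow_mem hg j
    haveI : (pCore p L).Normal := pCore_normal p L
    haveI : (U.subgroupOf L).Normal :=
      Subgroup.normal_subgroupOf_of_le_normalizer (sup_le Subgroup.le_normalizer hxn)
    have hd : Disjoint (pCore p L) (U.subgroupOf L) := by
      rw [Subgroup.disjoint_def]
      intro a ha hau
      obtain ⟨i, hi⟩ := isPGroup_pCore p L ⟨a, ha⟩
      obtain ⟨b, hb⟩ := hU ⟨a, hau⟩
      exact Subtype.ext (hdis _ i b (by simpa using congrArg (fun t : ↥(pCore p L) => ((t : L) : V ≃ₗ[ZMod p] V)) hi)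
        (congrArg Subtype.val hb))
    refine hall fun u hu => ?_
    exact congrArg Subtype.val (Subgroup.commute_of_normal_of_disjoint _ _ inferInstance
      inferInstance hd _ (⟨u, hUL hu⟩ : L) hzO hu).eq
  rcases degree_bound L (isPSolvable_of_le (sup_le hUH (zpowers_le.2 hxH)) hsol) hOp hxL hord hdef
    with h | ⟨n₀, q', m, h1, -, h3, h4, h5, h6, -⟩
  · have := Nat.one_le_pow e p hpp.pos
    omega
  have hq' : q' = 2 := by
    by_contra hne
    obtain ⟨a, ha⟩ := (hpp.odd_of_ne_two hp2).pow (n := n₀)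
    obtain ⟨b, hb⟩ := (h3.odd_of_ne_two hne).pow (n := m)
    omega
  subst hq'
  haveI : Fact (Nat.Prime 2) := ⟨Nat.prime_two⟩
  obtain ⟨Q⟩ : Nonempty (Sylow 2 L) := inferInstance
  refine h6 Q ?_
  by_cases hq2 : q = 2
  · subst hq2
    have hUc := hq.resolve_left (not_not.2 rfl)
    haveI : (U.subgroupOf L).Normal :=
      Subgroup.normal_subgroupOf_of_le_normalizer (sup_le Subgroup.le_normalizer hxn)
    have hUQ : U.subgroupOf L ≤ (Q : Subgroup L) :=
      (show IsPGroup 2 (U.subgroupOf L) from hU.comap_subtype).le_sylow_of_normal Q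
    have hQU : ∀ g : L, g ∈ (Q : Subgroup L) → (g : V ≃ₗ[ZMod p] V) ∈ U := by
      intro g hg
      obtain ⟨u, hu, i, hgu⟩ := hsplit g g.2
      obtain ⟨b, hb⟩ := Q.2 ⟨_, mul_mem (inv_mem (hUQ (show (⟨u, hUL hu⟩ : L) ∈ U.subgroupOf L
        from hu))) hg⟩
      obtain ⟨a, ha⟩ := hxp ⟨x ^ i, zpow_mem (mem_zpowers x) i⟩
      have hxb : (x ^ i) ^ 2 ^ b = 1 := by
        have h := congrArg (fun t : ↥(Q : Subgroup L) => ((t : L) : V ≃ₗ[ZMod p] V)) hb
        simpa [hgu] using h
      have hxa : (x ^ i) ^ p ^ a = 1 := by simpa using congrArg Subtype.val ha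
      rw [hgu, hdis (x ^ i) a b hxa hxb, mul_one]
      exact hu
    exact ⟨⟨fun a b => Subtype.ext (Subtype.ext (by
      have h := congrArg Subtype.val (hUc.is_comm.comm ⟨_, hQU a a.2⟩ ⟨_, hQU b b.2⟩)
      simp only [Subgroup.coe_mul] at h ⊢
      exact h))⟩⟩
  · have hodd : ¬ 2 ∣ Nat.card L := by
      intro hd
      obtain ⟨g, hg⟩ := exists_prime_orderOf_dvd_card' 2 hd
      obtain ⟨u, hu, i, hgu⟩ := hsplit g g.2
      haveI : (U.subgroupOf L).Normal :=
        Subgroup.normal_subgroupOf_of_le_normalizer (sup_le Subgroup.le_normalizer hxn)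
      obtain ⟨a, ha⟩ := hxp ⟨x ^ i, zpow_mem (mem_zpowers x) i⟩
      have h2 : ((g ^ p ^ a : L) : L ⧸ U.subgroupOf L) = 1 := by
        have he' : (g : L ⧸ U.subgroupOf L) = ((⟨x, hxL⟩ ^ i : L) : L ⧸ U.subgroupOf L) := by
          rw [QuotientGroup.eq, Subgroup.mem_subgroupOf]
          have : (g : V ≃ₗ[ZMod p] V)⁻¹ * x ^ i = (x ^ i)⁻¹ * u⁻¹ * x ^ i := by
            rw [hgu, mul_inv_rev]
          simp only [Subgroup.coe_mul, Subgroup.coe_inv, SubgroupClass.coe_zpow]
          rw [this]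
          exact (Subgroup.mem_normalizer_iff.1
            (hxn (inv_mem (zpow_mem (mem_zpowers x) i))) u⁻¹).1 (inv_mem hu) |>
            fun h => by simpa using h
        rw [QuotientGroup.mk_pow, he', ← QuotientGroup.mk_pow,
          show ((⟨x, hxL⟩ ^ i : L) ^ p ^ a) = 1 from Subtype.ext (by
            simpa using congrArg Subtype.val ha), QuotientGroup.mk_one]
      obtain ⟨b, hb⟩ := hU ⟨_, Subgroup.mem_subgroupOf.1 ((QuotientGroup.eq_one_iff _).1 h2)⟩
      have h3 : g ^ (p ^ a * q ^ b) = 1 := by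
        rw [pow_mul]; exact Subtype.ext (by simpa using congrArg Subtype.val hb)
      have h4 := orderOf_dvd_of_pow_eq_one h3
      rw [hg] at h4
      rcases (Nat.Prime.dvd_mul Nat.prime_two).1 h4 with h | h
      · exact hp2 ((Nat.prime_dvd_prime_iff_eq Nat.prime_two hpp).1
          (Nat.prime_two.dvd_of_dvd_pow h)).symm
      · exact hq2 ((Nat.prime_dvd_prime_iff_eq Nat.prime_two Fact.out).1
          (Nat.prime_two.dvd_of_dvd_pow h)).symm
    haveI : Subsingleton (Q : Subgroup L) := by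
      rw [← not_nontrivial_iff_subsingleton, Subgroup.nontrivial_iff_ne_bot, not_not]
      by_contra hne
      exact hodd ((CfsgLib.PGroups.dvd_card_of_ne_bot (G := ↥(Q : Subgroup L)) Q.2 (H := ⊤)
        (fun h => hne (by
          rw [← Subgroup.range_subtype (Q : Subgroup L), MonoidHom.range_eq_map, h,
            Subgroup.map_bot]))).trans ((Subgroup.card_top (G := ↥(Q : Subgroup L))).dvd.trans
            (Q : Subgroup L).card_subgroup_dvd_card))
    exact ⟨⟨fun a b => Subsingleton.elim _ _⟩⟩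

end Linear

/-- In a group acting with deficient degrees, the `z`'s lie in `O_{p',p}`. -/
theorem top_mem_pPrimePCore {Q : Type u} [Group Q] [Finite Q] {V : Type u} [AddCommGroup V]
    [Module (ZMod p) V] [Finite V] {e : ℕ} (hp2 : p ≠ 2) (he : 1 ≤ e)
    (hQ : IsPSolvable p Q) (hO : pCore p Q = ⊥) (ι : Q →* (V ≃ₗ[ZMod p] V))
    (hι : Function.Injective ι) (T : Sylow p Q) (hexp : ∀ t ∈ (T : Subgroup Q), t ^ p ^ e = 1)
    (hdef : ∀ t ∈ (T : Subgroup Q),
      ((ι t : Module.End (ZMod p) V) - 1) ^ (p ^ e - 1) = 0) :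
    ∀ y ∈ (T : Subgroup Q),
      QuotientGroup.mk' (pPrimeCore p Q) (y ^ p ^ (e - 1)) ∈ pCore p (Q ⧸ pPrimeCore p Q) := by
  classical
  have hpp : p.Prime := hp.out
  set K := pPrimeCore p Q with hK
  have hKc : (Nat.card K).Coprime p := pPrimeCore_coprime p Q
  haveI : K.Normal := inferInstance
  have hsolR : IsPSolvable p ι.range := isPSolvable_of_surjective ι.rangeRestrict
    ι.rangeRestrict_surjective hQ
  have hTn : ∀ {M : Subgroup Q}, (T : Subgroup Q) ≤ normalizer (M : Set Q) → ∀ {t : Q},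
      t ∈ (T : Subgroup Q) → t ∈ normalizer (M : Set Q) := fun h _ ht => h ht
  have hcopT : (Nat.card (T : Subgroup Q)).Coprime (Nat.card K) := by
    obtain ⟨k, hk⟩ := IsPGroup.iff_card.1 T.2
    rw [hk]; exact hKc.symm.pow_left k
  have hTsol : Group.IsSolvable (T : Subgroup Q) := by
    haveI := T.2.isNilpotent
    infer_instance
  -- the `z`'s commute
  have hcomm : ∀ y ∈ (T : Subgroup Q), ∀ y' ∈ (T : Subgroup Q),
      Commute (y ^ p ^ (e - 1)) (y' ^ p ^ (e - 1)) := by
    intro y hy y' hy'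
    set c := ⁅y ^ p ^ (e - 1), y' ^ p ^ (e - 1)⁆ with hc
    have hcent : ∀ (q : ℕ) [Fact q.Prime] (P : Sylow q K),
        (T : Subgroup Q) ≤ normalizer ((P : Subgroup K).map K.subtype : Set Q) →
        ∀ s ∈ (P : Subgroup K).map K.subtype, Commute c s := by
      intro q _ P hP s hs
      by_cases hqp : q = p
      · subst hqp
        have hb : (P : Subgroup K) = ⊥ := by
          rw [← Subgroup.card_eq_one]
          obtain ⟨k, hk⟩ := IsPGroup.iff_card.1 P.2
          exact Nat.eq_one_of_dvd_coprimes (hKc.symm.pow_left k) (dvd_of_eq hk)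
            (P : Subgroup K).card_subgroup_dvd_card
        rw [hb, Subgroup.map_bot, Subgroup.mem_bot] at hs
        rw [hs]; exact Commute.one_right c
      have hSq : IsPGroup q ((P : Subgroup K).map K.subtype) := P.2.map _
      have habel : ∀ t ∈ (T : Subgroup Q), ∀ U : Subgroup Q, U ≤ (P : Subgroup K).map K.subtype →
          (q ≠ 2 ∨ IsMulCommutative U) → t ∈ normalizer (U : Set Q) →
          ∀ u ∈ U, Commute (t ^ p ^ (e - 1)) u := by
        intro t ht U hU hUq htU u hu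
        have h := deficient_centralises hp2 he hqp ι.range hsolR (x := ι t) ⟨t, rfl⟩
          (by rw [← map_pow, hexp t ht, map_one]) (hdef t ht) (U := U.map ι)
          (Subgroup.map_le_range _ _) ((hSq.to_le hU).map _)
          (Subgroup.le_normalizer_map ι ⟨t, htU, rfl⟩)
          (hUq.imp id fun h => by haveI : IsMulCommutative U := h; exact Subgroup.map_isMulCommutative _ _) (ι u) ⟨u, hu, rfl⟩
        rw [← map_pow] at h
        exact hι (by rw [map_mul, map_mul]; exact h.eq)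
      exact commutator_centralises he hp2 hqp hSq T.2 hP hexp
        (fun t ht U hU hUc htU => habel t ht U hU (Or.inr hUc) htU) hy hy' s hs
    have hcK : c ∈ centralizer (K : Set Q) := by
      refine Subgroup.mem_centralizer_iff.mpr fun k hk => ?_
      set D := K ⊓ centralizer ({c} : Set Q) with hD
      have hDK : K ≤ D := by
        refine (Subgroup.eq_of_le_of_card_ge inf_le_left (Nat.le_of_dvd Nat.card_pos ?_)).ge
        refine Nat.dvd_iff_prime_pow_dvd_dvd _ _ |>.mpr fun q k hq hdvd => ?_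
        haveI := Fact.mk hq
        obtain ⟨P, hP⟩ := CfsgLib.Coprime.exists_invariant_sylow (p := q)
          (A := (T : Subgroup Q)) (K := K)
          (by rw [Subgroup.normalizer_eq_top]; exact le_top) hcopT (Or.inl hTsol)
        refine dvd_trans ?_ (Subgroup.card_dvd_of_le (le_inf (Subgroup.map_subtype_le _)
          (fun s hs => Subgroup.mem_centralizer_singleton_iff.mpr (hcent q P hP s hs).eq.symm)))
        rw [Subgroup.card_map_of_injective K.subtype_injective, P.card_eq_multiplicity]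
        exact pow_dvd_pow q ((Nat.Prime.pow_dvd_iff_le_factorization hq Nat.card_pos.ne').mp hdvd)
      exact Subgroup.mem_centralizer_singleton_iff.mp (hDK hk).2
    have hcK' := CfsgLib.FgsC.HallHigmanB.centralizer_pPrimeCore_le hQ hO hcK
    have hcT : c ∈ (T : Subgroup Q) := by
      rw [hc, commutatorElement_def]
      exact mul_mem (mul_mem (mul_mem (pow_mem hy _) (pow_mem hy' _)) (inv_mem (pow_mem hy _)))
        (inv_mem (pow_mem hy' _))
    have hc1 : c = 1 := by
      have := CfsgLib.Coprime.inf_eq_bot_of_coprime hcopT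
      exact Subgroup.mem_bot.1 (this ▸ ⟨hcT, hcK'⟩)
    exact commutatorElement_eq_one_iff_commute.1 hc1
  -- Theorem B on the next section
  intro y hy
  set π := QuotientGroup.mk' K with hπ
  have hπs := QuotientGroup.mk'_surjective K
  by_contra hne
  have hX : IsPSolvable p (Q ⧸ K) := isPSolvable_quotient hQ K
  obtain ⟨D⟩ := FrattiniRep.exists_data hX (pPrimeCore_quotient_pPrimeCore p Q)
  set x := π y with hx
  have hxe : x ^ p ^ e = 1 := by rw [hx, ← map_pow, hexp y hy, map_one]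
  have hz : D.ρ x ^ p ^ (e - 1) ≠ 1 := fun h => hne (by
    rw [map_pow]; exact D.ker ▸ MonoidHom.mem_ker.2 ((map_pow D.ρ x _).trans h))
  have hord : orderOf (D.ρ x) = p ^ e := by
    obtain ⟨e', rfl⟩ : ∃ e', e = e' + 1 := ⟨e - 1, by omega⟩
    exact orderOf_eq_prime_pow (by simpa using hz) (by rw [← map_pow, hxe, map_one])
  set g : Module.End (ZMod p) D.V := D.f x - 1 with hg
  have hgz : ∀ r : ↥(pCore p (Q ⧸ K)), (g ^ (p ^ (e - 1) + (p ^ (e - 1) - 1))) (D.proj r) = 0 := by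
    intro r
    obtain ⟨c, hc, hpc⟩ := D.exists_pow_eq x r (p ^ (e - 1))
    obtain ⟨t, ht, htr⟩ : ∃ t ∈ (T : Subgroup Q), π t = r :=
      pCore_le_sylow (T.mapSurjective hπs) r.2
    have h1 : Commute (x ^ p ^ (e - 1)) (((r : Q ⧸ K) * x) ^ p ^ (e - 1)) := by
      rw [hx, ← htr, ← map_mul, ← map_pow, ← map_pow]
      exact (hcomm y hy (t * y) (mul_mem ht hy)).map π
    rw [hc] at h1
    have h2 : (x ^ p ^ (e - 1)) * c * (x ^ p ^ (e - 1))⁻¹ = (c : Q ⧸ K) := by
      have := h1.eq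
      rw [← mul_assoc] at this
      rw [mul_inv_eq_iff_eq_mul, mul_right_cancel this]
    have h3 := D.conj (x ^ p ^ (e - 1)) c c h2.symm
    rw [FrattiniRep.geom_sum_pow] at hpc
    rw [← hg] at hpc
    have h4 : g ^ p ^ (e - 1) = D.f (x ^ p ^ (e - 1)) - 1 := by
      rw [hg, FrattiniRep.Data.f, end_sub_one_pow, ← map_pow]; rfl
    rw [pow_add, Module.End.mul_apply, ← hpc, h4, LinearMap.sub_apply, Module.End.one_apply,
      sub_eq_zero]
    exact h3.symm
  have hg0 : g ^ (p ^ (e - 1) + (p ^ (e - 1) - 1)) = 0 := LinearMap.ext fun v => by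
    obtain ⟨r, rfl⟩ := D.proj_surjective v
    exact hgz r
  haveI : Nontrivial D.V := by
    by_contra h
    rw [not_nontrivial_iff_subsingleton] at h
    exact hz (LinearEquiv.ext fun v => Subsingleton.elim _ _)
  have hsur := D.ρ.rangeRestrict_surjective
  have hOp : pCore p D.ρ.range = ⊥ := by
    rw [← map_pCore_mulEquiv (QuotientGroup.quotientKerEquivRange D.ρ),
      ← map_pCore_mulEquiv (QuotientGroup.quotientMulEquivOfEq D.ker.symm), pCore_quotient_pCore,
      Subgroup.map_bot, Subgroup.map_bot]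
  haveI : Finite D.ρ.range := Finite.of_surjective _ hsur
  obtain ⟨e', rfl⟩ : ∃ e', e = e' + 1 := ⟨e - 1, by omega⟩
  rw [Nat.add_sub_cancel] at hg0
  have hq0 := Nat.one_le_pow e' p hpp.pos
  have h3q : 3 * p ^ e' ≤ p ^ (e' + 1) := by
    rw [pow_succ']
    exact Nat.mul_le_mul_right _ (by have := hpp.two_le; omega)
  rcases degree_bound D.ρ.range (isPSolvable_of_surjective D.ρ.rangeRestrict hsur hX) hOp
    (x := D.ρ x) ⟨x, rfl⟩ hord hg0 with h | ⟨n₀, q, m, h1, h2, -, -, -, -, h7⟩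
  · omega
  · rw [Nat.mul_sub, mul_one, ← pow_add, Nat.sub_add_cancel h2] at h7
    have : p ^ (e' + 1 - n₀) ≤ p ^ e' := Nat.pow_le_pow_right hpp.pos (by omega)
    omega

end CfsgLib.PLocal.ExpPLength
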